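import Mathlib
import Cfsg.Agent.H20.NX.BDef
import Cfsg.Agent.H20.LX.Defs

/-!
# S4979, layer (B): the numerical half, interface (helper586)

`SX p q s n X B` : the perfect group `Y` acts faithfully and irreducibly on the symplectic space `(U, B)` over `ZMod s`,
`|U| = s ^ (2 n)`, preserving `B`; `X` is the largest proper normal subgroup of `Y`, `p ∤ |X|`, `p ∣ |Y|`, `q ∤ |Y|`
(a part of `H20.NX.SB`).

`LB p q s n L Z π a B` : `H20.GWX.LX` (the normal subgroup `L` of `G` is irreducible on the `q`-group `W`, `L / Z = U`), the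
commutator form of `L` on `W` is `B`; every vector `w` is fixed by a Sylow `p`-subgroup of `G`; the image of `π` has index prime
to `p`.

`Tw L a w` : the elements of `U` with a representative in `L` that has `w` as an eigenvector.
-/

set_option autoImplicit false

open scoped commutatorElement

namespace Cfsg.Agent.H586.NX

/-- The symplectic data. -/
structure SX (p q s n : ℕ) {Y U : Type*} [Group Y] [Finite Y] [AddCommGroup U] [Finite U]
    [DistribMulAction Y U] (X : Subgroup Y) (B : U → U → ZMod s) : Prop where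
  hp : p.Prime
  hq : q.Prime
  hs : s.Prime
  hps : p ≠ s
  odd : p ≠ 2
  ne : p ≠ q
  hn : 1 ≤ n
  perf : commutator Y = ⊤
  nX : X.Normal
  Xt : X ≠ ⊤
  maxX : ∀ M : Subgroup Y, M.Normal → M ≠ ⊤ → M ≤ X
  pX : ¬ p ∣ Nat.card X
  pY : p ∣ Nat.card Y
  qY : ¬ q ∣ Nat.card Y
  faith : ∀ y : Y, (∀ u : U, y • u = u) → y = 1
  exp : ∀ u : U, s • u = 0
  card : Nat.card U = s ^ (2 * n)
  addl : ∀ u v w : U, B (u + v) w = B u w + B v w
  addr : ∀ u v w : U, B u (v + w) = B u v + B u w
  alt : ∀ u : U, B u u = 0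
  nd : ∀ u : U, (∀ v : U, B u v = 0) → u = 0
  inv : ∀ (y : Y) (u v : U), B (y • u) (y • v) = B u v
  irr : ∀ W : AddSubgroup U, (∀ y : Y, ∀ w ∈ W, y • w ∈ W) → W = ⊥ ∨ W = ⊤

theorem SX.of_SB {p q s n f : ℕ} {Y U : Type*} [Group Y] [Finite Y] [AddCommGroup U] [Finite U]
    [DistribMulAction Y U] {X : Subgroup Y} {B : U → U → ZMod s} (h : Cfsg.Agent.H20.NX.SB p q s n f X B) :
    SX p q s n X B :=
  { hp := h.hp, hq := h.hq, hs := h.hs, hps := h.hps, odd := h.odd, ne := h.hpq, hn := h.hn, perf := h.perf, nX := h.nX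
    Xt := h.Xt, maxX := h.maxX, pX := h.cop
    pY := h.pY.trans (Subgroup.card_quotient_dvd_card X)
    qY := h.qY, faith := h.faith, exp := h.exp, card := h.card, addl := h.addl, addr := h.addr, alt := h.alt, nd := h.nd
    inv := h.inv, irr := h.irr }

/-- The normal subgroup `L`, irreducible on `W`. -/
structure LB (p q s n : ℕ) {G W Y U : Type*} [Group G] [Finite G] [AddCommGroup W] [Finite W]
    [DistribMulAction G W] [Group Y] [Finite Y] [AddCommGroup U] [Finite U] [DistribMulAction Y U]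
    (L Z : Subgroup G) (π : G →* Y) (a : L →* Multiplicative U) (B : U → U → ZMod s) : Prop where
  lx : Cfsg.Agent.H20.GWX.LX (W := W) p q s n L Z π a
  P1 : ∀ w : W, ¬ p ∣ (MulAction.stabilizer G w).index
  ip : ¬ p ∣ π.range.index
  cen : ∀ z ∈ Z, ∀ g : G, ∀ w : W, z • g • w = g • z • w
  form : ∀ l l' : L, B (Multiplicative.toAdd (a l)) (Multiplicative.toAdd (a l')) = 0 ↔
    ∀ w : W, (l : G) • (l' : G) • w = (l' : G) • (l : G) • w

/-- The elements of `U` with a representative in `L` that has `w` as an eigenvector. -/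
def Tw {G W U : Type*} [Group G] [AddCommGroup W] [DistribMulAction G W] [AddCommGroup U] (L : Subgroup G)
    (a : L →* Multiplicative U) (w : W) : Set U :=
  {u | ∃ l : L, Multiplicative.toAdd (a l) = u ∧
    ∃ c : AddMonoid.End W, (∀ l' ∈ L, ∀ v : W, c (l' • v) = l' • c v) ∧ (l : G) • w = c w}

end Cfsg.Agent.H586.NX
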