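import Cfsg.Agent.H727.GW.Sp
import Cfsg.Agent.H586.NX.Defs
import Cfsg.Agent.H37.NW.NumR

/-!
# S4979, layer (B), B4: centralizers in the symplectic group (helper586, after helper727's `GW/Sp`)

* `card_dvd`, `exists_fix`, `card_sq_le`.
-/

set_option autoImplicit false
set_option linter.unusedSectionVars false
set_option linter.style.haveILetI false

namespace Cfsg.Agent.H586.NX

open Module
open Cfsg.Agent.LieClassical.SympCount
open Cfsg.Agent.H727.GW

section
variable {p q s n : ℕ} {Y U : Type*} [Group Y] [Finite Y] [AddCommGroup U] [Finite U] [DistribMulAction Y U]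
  {X : Subgroup Y} {B : U → U → ZMod s}

theorem card_dvd (h : SX (U := U) p q s n X B) : Nat.card Y ∣ Cfsg.Agent.H37.NW.P s n :=
  card_dvd_sp h.hs B h.faith h.exp h.card h.addl h.addr h.alt h.nd h.inv

theorem exists_fix (h : SX (U := U) p q s n X B) {x : Y} (hx : orderOf x = p) :
    ∃ j : ℕ, 1 ≤ j ∧ j ≤ n ∧ Nat.card {u : U // x • u = u} = s ^ (2 * (n - j)) ∧
      (∃ i, 1 ≤ i ∧ i ≤ j ∧ p ∣ s ^ (2 * i) - 1) ∧
      (Subgroup.centralizer ({x} : Set Y)).index * (p * Cfsg.Agent.H37.NW.P s (n - j)) ≤ Cfsg.Agent.H37.NW.P s n := by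
  haveI := Fact.mk h.hs
  obtain ⟨M, B', ρ, h1, -, h2, h3, h4, h5⟩ := setup B h.faith h.exp h.card h.addl h.addr h.alt h.nd h.inv
  have hxm : (ρ x : U ≃ₗ[ZMod s] U) ∈ isomGroup B' := (ρ x).2
  have hord : orderOf (ρ x : U ≃ₗ[ZMod s] U) = p := by
    rw [Subgroup.orderOf_coe, orderOf_injective _ h2, hx]
  have hxp : (ρ x : U ≃ₗ[ZMod s] U) ^ p = 1 := hord ▸ pow_orderOf_eq_one _
  have hC := nondeg_fix h4 hxm (cast_ne h.hp h.hs h.hps) hxp
  obtain ⟨k, hk⟩ := even_finrank _ (fixS (ρ x : U ≃ₗ[ZMod s] U)) (B'.restrict _) (fun c => h3 c)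
    (fun c hc => Subtype.ext (hC c c.2 fun c' hc' => hc ⟨c', hc'⟩)) rfl
  have hle := Submodule.finrank_le (fixS (ρ x : U ≃ₗ[ZMod s] U))
  have hne : finrank (ZMod s) (fixS (ρ x : U ≃ₗ[ZMod s] U)) ≠ finrank (ZMod s) U := by
    intro heq
    have h6 := Submodule.eq_top_of_finrank_eq heq
    have h7 : x = 1 := h.faith x fun u => by
      have h8 : u ∈ fixS (ρ x : U ≃ₗ[ZMod s] U) := by rw [h6]; exact Submodule.mem_top
      rw [mem_fixS, h5] at h8
      exact h8
    rw [h7, orderOf_one] at hx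
    exact h.hp.one_lt.ne hx
  have hkn : k < n := by omega
  have h6 : Nat.card {u : U // x • u = u} = Nat.card (fixS (ρ x : U ≃ₗ[ZMod s] U)) := by
    refine Nat.card_congr (Equiv.subtypeEquivRight fun u => ?_)
    show x • u = u ↔ (ρ x : U ≃ₗ[ZMod s] U) u = u
    rw [h5]
  have h8 := finrank_orth h3 _ hC
  have h9 : finrank (ZMod s) (B'.orthogonal (fixS (ρ x : U ≃ₗ[ZMod s] U))) = 2 * (n - k) := by omega
  refine ⟨n - k, by omega, by omega, ?_, ?_, ?_⟩
  · rw [h6, Module.natCard_eq_pow_finrank (K := ZMod s), Nat.card_zmod, hk]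
    congr 1
    omega
  · have h10 := card_isomGroup (B'.restrict (B'.orthogonal (fixS (ρ x : U ≃ₗ[ZMod s] U)))) (fun d => h3 d)
      (fun d hd => Subtype.ext (nondeg_orth h3 _ hC h4 d d.2 fun d' hd' => hd ⟨d', hd'⟩)) h9
    have h11 := dvd_card_resD h3 h4 hxm (cast_ne h.hp h.hs h.hps) h.hp hord
    rw [h10, ZMod.card, h.hp.dvd_mul] at h11
    rcases h11 with h12 | h12
    · exact absurd ((Nat.prime_dvd_prime_iff_eq h.hp h.hs).1 (h.hp.dvd_of_dvd_pow h12)) h.hps
    · obtain ⟨i, hi, hd⟩ := (h.hp.prime.dvd_finsetProd_iff _).1 h12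
      exact ⟨i + 1, by omega, by rw [Finset.mem_range] at hi; omega, hd⟩
  · have hnk : n - (n - k) = k := by omega
    rw [hnk]
    unfold Cfsg.Agent.H37.NW.P
    have h10 := card_isomGroup (B'.restrict (fixS (ρ x : U ≃ₗ[ZMod s] U))) (fun d => h3 d)
      (fun d hd => Subtype.ext (hC d d.2 fun d' hd' => hd ⟨d', hd'⟩)) (by rw [hk, two_mul] :
        finrank (ZMod s) (fixS (ρ x : U ≃ₗ[ZMod s] U)) = 2 * k)
    have h11 := card_mul_le_centralizer h3 h4 hxm (cast_ne h.hp h.hs h.hps) hord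
    have h12 := card_isomGroup B' h3 h4 h1
    rw [ZMod.card] at h10 h12
    rw [← h10, ← h12]
    have : Finite (U ≃ₗ[ZMod s] U) :=
      Finite.of_injective (fun e : U ≃ₗ[ZMod s] U => (e : U → U)) DFunLike.coe_injective
    have hx' : (⟨(ρ x : U ≃ₗ[ZMod s] U), hxm⟩ : isomGroup B') = ρ x := rfl
    rw [hx'] at h11
    rw [← Subgroup.index_mul_card (Subgroup.centralizer ({ρ x} : Set (isomGroup B')))]
    refine Nat.mul_le_mul ?_ h11
    have h13 : Subgroup.centralizer ({x} : Set Y) =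
        (Subgroup.centralizer ({ρ x} : Set (isomGroup B'))).comap ρ := by
      ext y
      rw [Subgroup.mem_comap, Subgroup.mem_centralizer_singleton_iff, Subgroup.mem_centralizer_singleton_iff,
        ← map_mul, ← map_mul, h2.eq_iff]
    rw [h13, Subgroup.index_comap]
    have h14 := Subgroup.relIndex_le_of_le_right (H := Subgroup.centralizer ({ρ x} : Set (isomGroup B')))
      (le_top : ρ.range ≤ ⊤) (by rw [Subgroup.relIndex_top_right]; exact Subgroup.index_ne_zero_of_finite)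
    rwa [Subgroup.relIndex_top_right] at h14

/-- an isotropic subspace fixed by an element `x` of order `p`: `|T|² ≤ |C_U(x)|` -/
theorem card_sq_le (h : SX (U := U) p q s n X B) {x : Y} (hx : orderOf x = p)
    (T : AddSubgroup U) (hiso : ∀ u ∈ T, ∀ v ∈ T, B u v = 0) (hT : ∀ u ∈ T, x • u = u) :
    Nat.card T ^ 2 ≤ Nat.card {u : U // x • u = u} := by
  haveI := Fact.mk h.hs
  obtain ⟨M, B', ρ, h1, hBB, h2, h3, h4, h5⟩ := setup B h.faith h.exp h.card h.addl h.addr h.alt h.nd h.inv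
  have hxm : (ρ x : U ≃ₗ[ZMod s] U) ∈ isomGroup B' := (ρ x).2
  have hord : orderOf (ρ x : U ≃ₗ[ZMod s] U) = p := by
    rw [Subgroup.orderOf_coe, orderOf_injective _ h2, hx]
  have hxp : (ρ x : U ≃ₗ[ZMod s] U) ^ p = 1 := hord ▸ pow_orderOf_eq_one _
  have hC := nondeg_fix h4 hxm (cast_ne h.hp h.hs h.hps) hxp
  have h6 : Nat.card {u : U // x • u = u} = Nat.card (fixS (ρ x : U ≃ₗ[ZMod s] U)) := by
    refine Nat.card_congr (Equiv.subtypeEquivRight fun u => ?_)
    show x • u = u ↔ (ρ x : U ≃ₗ[ZMod s] U) u = u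
    rw [h5]
  let T' : Submodule (ZMod s) U := AddSubgroup.toZModSubmodule s T
  have hT' : ∀ u, u ∈ T' ↔ u ∈ T := fun u => Iff.rfl
  let T'' : Submodule (ZMod s) (fixS (ρ x : U ≃ₗ[ZMod s] U)) := T'.comap (fixS (ρ x : U ≃ₗ[ZMod s] U)).subtype
  have hle : T' ≤ fixS (ρ x : U ≃ₗ[ZMod s] U) := by
    intro u hu
    rw [mem_fixS, h5]
    exact hT u hu
  have e1 : finrank (ZMod s) T'' = finrank (ZMod s) T' :=
    (Submodule.comapSubtypeEquivOfLe hle).finrank_eq
  set C := B'.restrict (fixS (ρ x : U ≃ₗ[ZMod s] U)) with hCdef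
  have hrefl : C.IsRefl := by
    have : C.IsAlt := fun c => h3 c
    exact this.isRefl
  have hnd : C.Nondegenerate := by
    have h7 : ∀ c, (∀ c', C c c' = 0) → c = 0 := fun c hc => Subtype.ext (hC c c.2 fun c' hc' => hc ⟨c', hc'⟩)
    refine ⟨h7, fun c hc => h7 c fun c' => hrefl _ _ (hc c')⟩
  have h8 := LinearMap.BilinForm.finrank_orthogonal hnd T''
  have h9 : T'' ≤ C.orthogonal T'' := by
    intro c hc d hd
    have h10 : B' (d : U) (c : U) = 0 := by
      rw [hBB]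
      exact hiso _ hd _ hc
    exact h10
  have h10 := Submodule.finrank_mono h9
  have h11 := Submodule.finrank_le T''
  have h12 : 2 * finrank (ZMod s) T' ≤ finrank (ZMod s) (fixS (ρ x : U ≃ₗ[ZMod s] U)) := by omega
  have h13 : Nat.card T = s ^ finrank (ZMod s) T' := by
    have h14 : Nat.card T = Nat.card T' := rfl
    rw [h14, Module.natCard_eq_pow_finrank (K := ZMod s), Nat.card_zmod]
  rw [h6, Module.natCard_eq_pow_finrank (K := ZMod s) (V := fixS (ρ x : U ≃ₗ[ZMod s] U)), Nat.card_zmod, h13,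
    ← pow_mul, mul_comm]
  exact Nat.pow_le_pow_right h.hs.pos h12

end

end Cfsg.Agent.H586.NX
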