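import Mathlib
import Cfsg.Agent.H748.GW.DimFix

/-!
# Operators of order `3` (helper586)

* `diag_ker` : the kernel of a diagonal operator;
* `three_split` : `g ^ 3 = 1`, `ω ∈ F` of order `3`: eigenspace dimensions, dimension of the centralizer, determinant;
* `three_nonsplit` : `g ^ 3 = 1`, no element of order `3` in `F`.
-/

set_option autoImplicit false
set_option linter.unusedSectionVars false

open Module

namespace Cfsg.Agent.H586.NX

open Cfsg.Agent.H748.GW (CC mem_CC)

section
variable {F : Type*} [Field F]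

theorem diag_ker {V I : Type*} [AddCommGroup V] [Module F V] [Fintype I] (b : Basis I F V) (T : V →ₗ[F] V)
    (c : I → F) (hT : ∀ i, T (b i) = c i • b i) : finrank F (LinearMap.ker T) = Nat.card {i // c i = 0} := by
  classical
  have h1 : LinearMap.ker T = Submodule.span F (Set.range (fun i : {i // c i = 0} => b i)) := by
    apply le_antisymm
    · intro v hv
      have h2 : ∀ i, b.repr v i * c i = 0 := by
        intro i
        have h3 : T v = ∑ j, (b.repr v j * c j) • b j := by
          conv_lhs => rw [← b.sum_repr v]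
          rw [map_sum]
          refine Finset.sum_congr rfl fun j _ => ?_
          rw [map_smul, hT, smul_smul]
        rw [LinearMap.mem_ker.1 hv] at h3
        exact (Fintype.linearIndependent_iff.1 b.linearIndependent) _ h3.symm i
      rw [← b.sum_repr v]
      refine Submodule.sum_mem _ fun i _ => ?_
      by_cases hc : c i = 0
      · exact Submodule.smul_mem _ _ (Submodule.subset_span ⟨⟨i, hc⟩, rfl⟩)
      · rcases mul_eq_zero.1 (h2 i) with h3 | h3
        · rw [h3, zero_smul]; exact Submodule.zero_mem _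
        · exact absurd h3 hc
    · rw [Submodule.span_le]
      rintro _ ⟨⟨i, hi⟩, rfl⟩
      change T (b i) = 0
      rw [hT, hi, zero_smul]
  have h2 : LinearIndependent F (fun i : {i // c i = 0} => b i) := b.linearIndependent.comp _ Subtype.val_injective
  rw [h1, finrank_span_eq_card h2, Nat.card_eq_fintype_card]

/-- the centralizer of a diagonal operator -/
theorem diag_cent {V I : Type*} [AddCommGroup V] [Module F V] [Fintype I] [DecidableEq I] (b : Basis I F V)
    (g : Module.End F V) (c : I → F) (hg : ∀ i, g (b i) = c i • b i) :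
    finrank F (CC g) = Nat.card {ij : I × I // c ij.1 = c ij.2} := by
  classical
  let T : Module.End F V →ₗ[F] Module.End F V :=
    { toFun := fun A => g * A - A * g
      map_add' := fun A B => by rw [mul_add, add_mul]; abel
      map_smul' := fun r A => by
        rw [mul_smul_comm, smul_mul_assoc, RingHom.id_apply, smul_sub] }
  have hT : ∀ A, T A = g * A - A * g := fun _ => rfl
  let β : Basis (I × I) F (Module.End F V) := (Basis.linearMap b b)
  have hβ : ∀ ij : I × I, T (β ij) = (c ij.1 - c ij.2) • β ij := by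
    rintro ⟨i, j⟩
    apply b.ext
    intro k
    rw [hT, LinearMap.sub_apply, Module.End.mul_apply, Module.End.mul_apply, LinearMap.smul_apply, hg, map_smul]
    have h1 : (β (i, j)) (b k) = if j = k then b i else 0 := Basis.linearMap_apply_apply b b (i, j) k
    rw [h1]
    split_ifs with h
    · subst h
      rw [hg, sub_smul]
    · rw [map_zero, smul_zero, smul_zero, sub_zero]
  have h1 := diag_ker β T (fun ij => c ij.1 - c ij.2) hβ
  have h2 : LinearMap.ker T = CC g := by
    ext A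
    rw [LinearMap.mem_ker, hT, mem_CC, sub_eq_zero]
  rw [← h2, h1]
  refine Nat.card_congr (Equiv.subtypeEquivRight fun ij => ?_)
  exact sub_eq_zero

theorem three_split {V : Type*} [AddCommGroup V] [Module F V] [FiniteDimensional F V] (g : Module.End F V)
    (hg : g ^ 3 = 1) {ω : F} (hω : ω ^ 3 = 1) (hω1 : ω ≠ 1) :
    ∃ d0 d1 d2 : ℕ, finrank F (LinearMap.ker (g - 1)) = d0 ∧ d0 + d1 + d2 = finrank F V ∧
      finrank F (CC g) = d0 ^ 2 + d1 ^ 2 + d2 ^ 2 ∧ LinearMap.det g = ω ^ (d1 + 2 * d2) := by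
  classical
  have hs : ω ^ 2 + ω + 1 = 0 := by
    have h1 : (ω - 1) * (ω ^ 2 + ω + 1) = 0 := by
      have : (ω - 1) * (ω ^ 2 + ω + 1) = ω ^ 3 - 1 := by ring
      rw [this, hω, sub_self]
    exact (mul_eq_zero.1 h1).resolve_left (sub_ne_zero.2 hω1)
  have h3 : (3 : F) ≠ 0 := by
    intro h3
    apply hω1
    have h1 : (ω - 1) ^ 2 = 0 := by
      have : (ω - 1) ^ 2 = (ω ^ 2 + ω + 1) - 3 * ω := by ring
      rw [this, hs, h3]; ring
    exact sub_eq_zero.1 (pow_eq_zero_iff (by norm_num) |>.1 h1)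
  have hω0 : ω ≠ 0 := by
    rintro rfl
    norm_num at hω
  let E : Fin 3 → Submodule F V := fun c => Module.End.eigenspace g (ω ^ (c : ℕ))
  have hinj : Function.Injective (fun c : Fin 3 => ω ^ (c : ℕ)) := by
    have h2 : ω ^ 2 ≠ 1 := by
      intro h2
      apply hω1
      have h4 : ω ^ 3 = ω ^ 2 * ω := by ring
      rw [hω, h2, one_mul] at h4
      exact h4.symm
    have h21 : ω ^ 2 ≠ ω := by
      intro h4
      apply hω1
      have h5 : ω * ω = ω * 1 := by rw [mul_one, ← pow_two]; exact h4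
      exact mul_left_cancel₀ hω0 h5
    have key : ∀ c d : ℕ, c < 3 → d < 3 → c < d → ω ^ c ≠ ω ^ d := by
      intro c d hc hd hcd h5
      have h6 : (c = 0 ∧ d = 1) ∨ (c = 0 ∧ d = 2) ∨ (c = 1 ∧ d = 2) := by omega
      rcases h6 with ⟨rfl, rfl⟩ | ⟨rfl, rfl⟩ | ⟨rfl, rfl⟩
      · rw [pow_zero, pow_one] at h5; exact hω1 h5.symm
      · rw [pow_zero] at h5; exact h2 h5.symm
      · rw [pow_one] at h5; exact h21 h5.symm
    intro c d hcd
    rcases lt_trichotomy (c : ℕ) d with h5 | h5 | h5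
    · exact absurd hcd (key c d c.2 d.2 h5)
    · exact Fin.ext h5
    · exact absurd hcd.symm (key d c d.2 c.2 h5)
  have hind : iSupIndep E := (Module.End.eigenspaces_iSupIndep g).comp hinj
  have htop : iSup E = ⊤ := by
    rw [eq_top_iff]
    intro w _
    have hmem : ∀ c : Fin 3, (g ^ 2 + (ω ^ (c : ℕ)) • g + ((ω ^ (c : ℕ)) ^ 2) • (1 : Module.End F V)) w ∈ E c := by
      intro c
      change _ ∈ Module.End.eigenspace g (ω ^ (c : ℕ))
      rw [Module.End.mem_eigenspace_iff]
      set t := ω ^ (c : ℕ) with ht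
      have ht3 : t ^ 3 = 1 := by rw [ht, ← pow_mul, mul_comm, pow_mul, hω, one_pow]
      have h1 : g * (g ^ 2 + t • g + (t ^ 2) • (1 : Module.End F V)) =
          t • (g ^ 2 + t • g + (t ^ 2) • (1 : Module.End F V)) := by
        have e1 : g * g ^ 2 = 1 := by rw [← hg]; rfl
        rw [mul_add, mul_add, e1, mul_smul_comm, mul_smul_comm, mul_one, smul_add, smul_add, smul_smul, smul_smul,
          ← pow_two g, ← pow_two t]
        have e2 : t * t ^ 2 = 1 := by rw [← ht3]; ring
        rw [e2, one_smul]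
        abel
      exact LinearMap.congr_fun h1 w
    have hsum : (3 : F) • w = ∑ c : Fin 3, (ω ^ (c : ℕ)) •
        (g ^ 2 + (ω ^ (c : ℕ)) • g + ((ω ^ (c : ℕ)) ^ 2) • (1 : Module.End F V)) w := by
      rw [Fin.sum_univ_three]
      simp only [Fin.val_zero, Fin.val_one, Fin.val_two, pow_zero, pow_one, one_smul, one_pow, LinearMap.add_apply,
        LinearMap.smul_apply, Module.End.one_apply, smul_add, smul_smul]
      have e1 : (g ^ 2) w + g w + w + (ω • (g ^ 2) w + (ω * ω) • g w + (ω * ω ^ 2) • w) +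
          (ω ^ 2 • (g ^ 2) w + (ω ^ 2 * ω ^ 2) • g w + (ω ^ 2 * (ω ^ 2) ^ 2) • w) =
          (ω ^ 2 + ω + 1) • (g ^ 2) w + (1 + ω * ω + ω ^ 2 * ω ^ 2) • g w +
            (1 + ω * ω ^ 2 + ω ^ 2 * (ω ^ 2) ^ 2) • w := by
        module
      rw [e1, hs]
      have e2 : 1 + ω * ω + ω ^ 2 * ω ^ 2 = 0 := by
        have : 1 + ω * ω + ω ^ 2 * ω ^ 2 = (ω ^ 2 + ω + 1) + ω * (ω ^ 3 - 1) := by ring
        rw [this, hs, hω]; ring
      have e3 : 1 + ω * ω ^ 2 + ω ^ 2 * (ω ^ 2) ^ 2 = 3 := by
        have : 1 + ω * ω ^ 2 + ω ^ 2 * (ω ^ 2) ^ 2 = 1 + ω ^ 3 + ω ^ 3 * ω ^ 3 := by ring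
        rw [this, hω]; norm_num
      rw [e2, e3, zero_smul, zero_smul, zero_add, zero_add]
    have h4 : (3 : F)⁻¹ • ((3 : F) • w) = w := by rw [smul_smul, inv_mul_cancel₀ h3, one_smul]
    rw [← h4, hsum]
    refine Submodule.smul_mem _ _ (Submodule.sum_mem _ fun c _ => Submodule.smul_mem _ _ ?_)
    exact (le_iSup E c) (hmem c)
  have hint : DirectSum.IsInternal E := DirectSum.isInternal_submodule_of_iSupIndep_of_iSup_eq_top hind htop
  let d : Fin 3 → ℕ := fun c => finrank F (E c)
  let b : Basis (Σ c : Fin 3, Fin (d c)) F V := hint.collectedBasis (fun c => Module.finBasis F (E c))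
  have hgb : ∀ i, g (b i) = (ω ^ ((i.1 : Fin 3) : ℕ)) • b i := by
    intro i
    have h1 : b i ∈ E i.1 := hint.collectedBasis_mem _ i
    exact Module.End.mem_eigenspace_iff.1 h1
  have hω2 : ω ^ 2 ≠ 1 := fun h => by
    have := @hinj 2 0 (by simpa using h)
    exact absurd this (by decide)
  refine ⟨d 0, d 1, d 2, ?_, ?_, ?_, ?_⟩
  · have h1 : LinearMap.ker (g - 1) = E 0 := by
      ext w
      change _ ↔ w ∈ Module.End.eigenspace g (ω ^ ((0 : Fin 3) : ℕ))
      rw [Module.End.mem_eigenspace_iff, Fin.val_zero, pow_zero, one_smul, LinearMap.mem_ker, LinearMap.sub_apply,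
        Module.End.one_apply, sub_eq_zero]
    rw [h1]
  · rw [finrank_eq_card_basis b, Fintype.card_sigma, Fin.sum_univ_three]
    simp only [Fintype.card_fin]
  · rw [diag_cent b g (fun i => ω ^ ((i.1 : Fin 3) : ℕ)) hgb]
    let e : {ij : (Σ c : Fin 3, Fin (d c)) × (Σ c : Fin 3, Fin (d c)) //
        ω ^ ((ij.1.1 : Fin 3) : ℕ) = ω ^ ((ij.2.1 : Fin 3) : ℕ)} ≃ (Σ c : Fin 3, Fin (d c) × Fin (d c)) :=
      { toFun := fun x => ⟨x.1.1.1, (x.1.1.2, (hinj x.2) ▸ x.1.2.2)⟩
        invFun := fun x => ⟨(⟨x.1, x.2.1⟩, ⟨x.1, x.2.2⟩), rfl⟩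
        left_inv := by
          rintro ⟨⟨⟨c, i⟩, ⟨c', j⟩⟩, hcc⟩
          have : c = c' := hinj hcc
          subst this
          rfl
        right_inv := by
          rintro ⟨c, i, j⟩
          rfl }
    rw [Nat.card_congr e, Nat.card_eq_fintype_card, Fintype.card_sigma, Fin.sum_univ_three]
    simp only [Fintype.card_prod, Fintype.card_fin, pow_two]
  · rw [← LinearMap.det_toMatrix b]
    have h1 : LinearMap.toMatrix b b g = Matrix.diagonal (fun i => ω ^ ((i.1 : Fin 3) : ℕ)) := by
      ext i j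
      rw [LinearMap.toMatrix_apply, hgb, map_smul, Finsupp.smul_apply, Basis.repr_self, Matrix.diagonal_apply,
        Finsupp.single_apply]
      by_cases hij : i = j
      · subst hij
        rw [if_pos rfl, if_pos rfl, smul_eq_mul, mul_one]
      · rw [if_neg (fun h => hij h.symm), if_neg hij, smul_zero]
    rw [h1, Matrix.det_diagonal, Fintype.prod_sigma, Fin.prod_univ_three]
    simp only [Finset.prod_const, Finset.card_univ, Fintype.card_fin, Fin.val_zero, Fin.val_one, Fin.val_two, pow_zero,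
      pow_one, one_pow, one_mul]
    rw [← pow_mul, ← pow_add]

open Cfsg.Agent.H748.GW in
open scoped Polynomial in
open Polynomial hiding CC in
/-- the irreducible case, with equality -/
theorem irr_eq {W : Type*} [AddCommGroup W] [Module F W] [FiniteDimensional F W] (h : Module.End F W) {f : F[X]}
    (hf : Irreducible f) (ha : aeval h f = 0) :
    ∃ m, finrank F W = f.natDegree * m ∧ finrank F (CC h) = f.natDegree * m ^ 2 := by
  have : Fact (Irreducible f) := ⟨hf⟩
  let φ : AdjoinRoot f →ₐ[F] Module.End F W := Ideal.Quotient.liftₐ (Ideal.span {f}) (aeval h) (by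
    intro a ha'
    obtain ⟨b, rfl⟩ := Ideal.mem_span_singleton'.1 ha'
    rw [map_mul, ha, mul_zero])
  have hφm : ∀ P : F[X], φ (AdjoinRoot.mk f P) = aeval h P := fun P => rfl
  have hφ : φ (AdjoinRoot.root f) = h := by
    have h1 : φ (AdjoinRoot.mk f X) = aeval h X := rfl
    rw [aeval_X] at h1
    exact h1
  let _ : Module (AdjoinRoot f) W := Module.compHom W φ.toRingHom
  have hsm : ∀ (a : AdjoinRoot f) (w : W), a • w = φ a w := fun a w => rfl
  have : IsScalarTower F (AdjoinRoot f) W := ⟨fun c a w => by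
    rw [hsm, hsm, map_smul, LinearMap.smul_apply]⟩
  have h1 : finrank F (AdjoinRoot f) = f.natDegree := by
    rw [(AdjoinRoot.powerBasis hf.ne_zero).finrank, AdjoinRoot.powerBasis_dim]
  have hfin : Module.Finite (AdjoinRoot f) W := Module.Finite.right F (AdjoinRoot f) W
  have h2 := Module.finrank_mul_finrank F (AdjoinRoot f) W
  have h3 : finrank (AdjoinRoot f) (W →ₗ[AdjoinRoot f] W) = finrank (AdjoinRoot f) W * finrank (AdjoinRoot f) W :=
    Module.finrank_linearMap _ _ _ _
  have h4 := Module.finrank_mul_finrank F (AdjoinRoot f) (W →ₗ[AdjoinRoot f] W)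
  let Ψ : (W →ₗ[AdjoinRoot f] W) →ₗ[F] CC h :=
    { toFun := fun T => ⟨T.restrictScalars F, by
        rw [mem_CC]
        ext w
        show h (T w) = T (h w)
        rw [← hφ, ← hsm, ← hsm, map_smul]⟩
      map_add' := fun S T => rfl
      map_smul' := fun c T => rfl }
  have hinj : Function.Injective Ψ := by
    intro S T hST
    ext w
    exact congrArg (fun f : CC h => (f : Module.End F W) w) hST
  have hcom : ∀ (T : Module.End F W), h * T = T * h → ∀ P : F[X], aeval h P * T = T * aeval h P := by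
    intro T hT P
    induction P using Polynomial.induction_on' with
    | add p q hp hq => rw [map_add, add_mul, mul_add, hp, hq]
    | monomial n c =>
      rw [aeval_monomial]
      have h5 : h ^ n * T = T * h ^ n := (show Commute h T from hT).pow_left n
      rw [mul_assoc, h5, ← mul_assoc, ← mul_assoc, Algebra.commutes]
  have hsurj : Function.Surjective Ψ := by
    rintro ⟨T, hT⟩
    rw [mem_CC] at hT
    refine ⟨{ toFun := T, map_add' := T.map_add, map_smul' := fun a w => ?_ }, ?_⟩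
    · induction a using AdjoinRoot.induction_on with
      | ih P =>
        rw [hsm, hφm, RingHom.id_apply, hsm, hφm]
        have h5 := LinearMap.congr_fun (hcom T hT P) w
        exact h5.symm
    · apply Subtype.ext
      ext w
      rfl
  have hle := LinearEquiv.finrank_eq (LinearEquiv.ofBijective Ψ ⟨hinj, hsurj⟩)
  rw [h1] at h2 h4
  rw [h3] at h4
  refine ⟨finrank (AdjoinRoot f) W, h2.symm, ?_⟩
  rw [← hle, ← h4]
  ring

/-- direct sums, with equality -/
theorem split_eq {W : Type*} [AddCommGroup W] [Module F W] [FiniteDimensional F W] (h : Module.End F W)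
    {A B : Submodule F W} (hAB : IsCompl A B) (hA : ∀ x ∈ A, h x ∈ A) (hB : ∀ x ∈ B, h x ∈ B)
    (hTA : ∀ T ∈ CC h, ∀ x ∈ A, T x ∈ A) (hTB : ∀ T ∈ CC h, ∀ x ∈ B, T x ∈ B) :
    finrank F (CC h) = finrank F (CC (h.restrict hA)) + finrank F (CC (h.restrict hB)) := by
  refine le_antisymm ?_ (Cfsg.Agent.H748.GW.split h hAB hA hB)
  have hm1 : ∀ T : CC h, (T : Module.End F W).restrict (hTA T T.2) ∈ CC (h.restrict hA) := by
    intro T
    rw [mem_CC]
    have h1 := mem_CC.1 T.2
    ext w
    exact LinearMap.congr_fun h1 (w : W)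
  have hm2 : ∀ T : CC h, (T : Module.End F W).restrict (hTB T T.2) ∈ CC (h.restrict hB) := by
    intro T
    rw [mem_CC]
    have h1 := mem_CC.1 T.2
    ext w
    exact LinearMap.congr_fun h1 (w : W)
  let Ψ : CC h →ₗ[F] (CC (h.restrict hA)) × (CC (h.restrict hB)) :=
    { toFun := fun T => (⟨_, hm1 T⟩, ⟨_, hm2 T⟩)
      map_add' := fun S T => by
        refine Prod.ext (Subtype.ext ?_) (Subtype.ext ?_) <;> rfl
      map_smul' := fun c T => by
        refine Prod.ext (Subtype.ext ?_) (Subtype.ext ?_) <;> rfl }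
  have hinj : Function.Injective Ψ := by
    intro S T hST
    have h1 : ∀ x ∈ A, (S : Module.End F W) x = (T : Module.End F W) x := by
      intro x hx
      have h2 := congrArg (fun z : (CC (h.restrict hA)) × (CC (h.restrict hB)) =>
        (((z.1 : Module.End F A) ⟨x, hx⟩ : A) : W)) hST
      exact h2
    have h1' : ∀ x ∈ B, (S : Module.End F W) x = (T : Module.End F W) x := by
      intro x hx
      have h2 := congrArg (fun z : (CC (h.restrict hA)) × (CC (h.restrict hB)) =>
        (((z.2 : Module.End F B) ⟨x, hx⟩ : B) : W)) hST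
      exact h2
    apply Subtype.ext
    ext w
    have hw : w ∈ A ⊔ B := by rw [hAB.sup_eq_top]; trivial
    obtain ⟨x, hx, y, hy, rfl⟩ := Submodule.mem_sup.1 hw
    rw [map_add, map_add, h1 x hx, h1' y hy]
  have hle := LinearMap.finrank_le_finrank_of_injective hinj
  have i1 := Cfsg.Agent.H748.GW.freeCC (h.restrict hA)
  have i2 := Cfsg.Agent.H748.GW.finCC (h.restrict hA)
  have i3 := Cfsg.Agent.H748.GW.freeCC (h.restrict hB)
  have i4 := Cfsg.Agent.H748.GW.finCC (h.restrict hB)
  rwa [Module.finrank_prod] at hle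

open Cfsg.Agent.H748.GW in
open scoped Polynomial in
open Polynomial hiding CC in
theorem three_nonsplit {V : Type*} [AddCommGroup V] [Module F V] [FiniteDimensional F V] (g : Module.End F V)
    (hg : g ^ 3 = 1) (h3 : (3 : F) ≠ 0) (hno : ∀ ω : F, ω ^ 3 = 1 → ω = 1) :
    ∃ d0 m : ℕ, finrank F (LinearMap.ker (g - 1)) = d0 ∧ d0 + 2 * m = finrank F V ∧
      finrank F (CC g) = d0 ^ 2 + 2 * m ^ 2 := by
  set f₁ : F[X] := X - C 1 with hf1
  set f₂ : F[X] := X ^ 2 + X + 1 with hf2
  have hdeg : f₂.natDegree = 2 := by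
    rw [hf2]; compute_degree!
  have hirr : Irreducible f₂ := by
    refine Polynomial.irreducible_of_degree_le_three_of_not_isRoot ?_ ?_
    · rw [hdeg]; decide
    · intro x hx
      have h1 : x ^ 2 + x + 1 = 0 := by
        have := hx
        rw [IsRoot.def, hf2] at this
        simpa using this
      have h2 : x ^ 3 = 1 := by
        have : x ^ 3 = (x - 1) * (x ^ 2 + x + 1) + 1 := by ring
        rw [this, h1]; ring
      rw [hno x h2] at h1
      apply h3
      rw [← h1]; ring
  have hc : IsCoprime f₁ f₂ := by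
    refine ⟨-(C (3 : F)⁻¹) * (X + 2), C (3 : F)⁻¹, ?_⟩
    have h4 : (C (3 : F)⁻¹ : F[X]) * 3 = 1 := by
      rw [show (3 : F[X]) = C 3 from rfl, ← C_mul, inv_mul_cancel₀ h3, C_1]
    rw [hf1, hf2, C_1]
    calc -(C (3 : F)⁻¹) * (X + 2) * (X - 1) + C (3 : F)⁻¹ * (X ^ 2 + X + 1) = C (3 : F)⁻¹ * 3 := by ring
      _ = 1 := h4
  have ha : aeval g (f₁ * f₂) = 0 := by
    have h1 : f₁ * f₂ = X ^ 3 - 1 := by rw [hf1, hf2, C_1]; ring
    rw [h1, map_sub, map_pow, aeval_X, map_one, hg, sub_self]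
  have hcomm : ∀ T ∈ CC g, ∀ (f : F[X]) (x : V), aeval g f (T x) = T (aeval g f x) := by
    intro T hT f x
    rw [mem_CC] at hT
    have key : aeval g f * T = T * aeval g f := by
      induction f using Polynomial.induction_on' with
      | add p q hp hq => rw [map_add, add_mul, mul_add, hp, hq]
      | monomial n c =>
        rw [aeval_monomial]
        have h5 : g ^ n * T = T * g ^ n := (show Commute g T from hT).pow_left n
        rw [mul_assoc, h5, ← mul_assoc, ← mul_assoc, Algebra.commutes]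
    exact LinearMap.congr_fun key x
  have hT : ∀ f : F[X], ∀ T ∈ CC g, ∀ x ∈ LinearMap.ker (aeval g f), T x ∈ LinearMap.ker (aeval g f) := by
    intro f T hT x hx
    rw [LinearMap.mem_ker] at hx ⊢
    rw [hcomm T hT, hx, map_zero]
  have hgg : g ∈ CC g := mem_CC.2 rfl
  have hAB : IsCompl (LinearMap.ker (aeval g f₁)) (LinearMap.ker (aeval g f₂)) := by
    refine ⟨disjoint_ker_aeval_of_isCoprime g hc, ?_⟩
    rw [codisjoint_iff, sup_ker_aeval_eq_ker_aeval_mul_of_coprime g hc, ha, LinearMap.ker_zero]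
  have h1 := split_eq g hAB (hT f₁ g hgg) (hT f₂ g hgg) (hT f₁) (hT f₂)
  obtain ⟨m, hm1, hm2⟩ := irr_eq (g.restrict (hT f₂ g hgg)) hirr (by
    ext a
    rw [aeval_res]
    exact a.2)
  have e1 : LinearMap.ker (g - 1) = LinearMap.ker (aeval g f₁) := by
    rw [hf1, map_sub, aeval_X, C_1, map_one]
  have hd := Submodule.finrank_add_eq_of_isCompl hAB
  refine ⟨finrank F (LinearMap.ker (aeval g f₁)), m, by rw [e1], ?_, ?_⟩
  · rw [← hd, hm1, hdeg]
  · rw [h1, hm2, hdeg]
    congr 1
    -- `g` is the identity on the kernel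
    have e2 : CC (g.restrict (hT f₁ g hgg)) = ⊤ := by
      rw [eq_top_iff]
      intro T _
      have e3 : g.restrict (hT f₁ g hgg) = 1 := by
        ext a
        have h5 : aeval g f₁ (a : V) = 0 := a.2
        have h6 : aeval g f₁ = g - 1 := by rw [hf1, map_sub, aeval_X, C_1, map_one]
        have h7 : (g - 1) (a : V) = 0 := by rw [← h5]; exact (LinearMap.congr_fun h6 (a : V)).symm
        rw [LinearMap.sub_apply, sub_eq_zero] at h7
        exact h7
      rw [mem_CC, e3, one_mul, mul_one]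
    rw [e2, finrank_top, pow_two]
    exact Module.finrank_linearMap _ _ _ _

end

/-! ### arithmetic -/

/-- `u ^ 2 + u v + v ^ 2 = 4 ^ t` -/
theorem norm_four (t : ℕ) : ∀ u v : ℤ, u ^ 2 + u * v + v ^ 2 = 4 ^ t →
    (u = 0 ∧ (v = 2 ^ t ∨ v = -2 ^ t)) ∨ (v = 0 ∧ (u = 2 ^ t ∨ u = -2 ^ t)) ∨
      (u + v = 0 ∧ (u = 2 ^ t ∨ u = -2 ^ t)) := by
  induction t with
  | zero =>
    intro u v h
    rw [pow_zero] at h ⊢
    have hu : u ^ 2 ≤ 1 := by nlinarith [sq_nonneg (u + 2 * v)]
    have hv : v ^ 2 ≤ 1 := by nlinarith [sq_nonneg (v + 2 * u)]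
    have hu1 : u ≤ 1 := by nlinarith
    have hu2 : -1 ≤ u := by nlinarith
    have hv1 : v ≤ 1 := by nlinarith
    have hv2 : -1 ≤ v := by nlinarith
    interval_cases u <;> interval_cases v <;> omega
  | succ t ih =>
    intro u v h
    have hpar : (∃ u', u = 2 * u') ∧ ∃ v', v = 2 * v' := by
      rcases Int.even_or_odd' u with ⟨a, ha | ha⟩ <;> rcases Int.even_or_odd' v with ⟨b, hb | hb⟩
      · exact ⟨⟨a, ha⟩, b, hb⟩
      all_goals
        exfalso
        subst ha hb
        have h4 : (4 : ℤ) ^ (t + 1) = 2 * (2 * 4 ^ t) := by ring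
        rw [h4] at h
        ring_nf at h
        omega
    obtain ⟨⟨u', rfl⟩, v', rfl⟩ := hpar
    have h' : u' ^ 2 + u' * v' + v' ^ 2 = 4 ^ t := by
      have : 4 * (u' ^ 2 + u' * v' + v' ^ 2) = 4 * 4 ^ t := by
        rw [show (4 : ℤ) * 4 ^ t = 4 ^ (t + 1) by ring, ← h]; ring
      linarith
    have hp : (2 : ℤ) ^ (t + 1) = 2 * 2 ^ t := by ring
    rw [hp]
    rcases ih u' v' h' with ⟨h1, h2⟩ | ⟨h1, h2⟩ | ⟨h1, h2⟩
    · left; constructor <;> omega
    · right; left; constructor <;> omega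
    · right; right; constructor <;> omega

theorem two_pow_mod (n : ℕ) : (2 : ℤ) ^ n % 3 = (if Even n then 1 else 2) := by
  induction n with
  | zero => simp
  | succ n ih =>
    rw [pow_succ, Int.mul_emod, ih]
    by_cases h : Even n
    · rw [if_pos h, if_neg (by rwa [Nat.even_add_one, not_not])]; rfl
    · rw [if_neg h, if_pos (by rwa [Nat.even_add_one])]; rfl

/-- the multiplicities of an element of order `3` -/
theorem arith {n k d0 d1 d2 : ℕ} (hk : k ≤ n) (h1 : d0 + d1 + d2 = 2 ^ n)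
    (h2 : 3 * (d0 ^ 2 + d1 ^ 2 + d2 ^ 2) = 4 ^ n + 2 * 4 ^ (n - k)) :
    (d1 = d2 ∧ (3 * d0 : ℤ) = 2 ^ n + 2 * (-1) ^ k * 2 ^ (n - k)) ∨
    (d1 ≠ d2 ∧ ¬ 3 ∣ d1 + 2 * d2 ∧ (3 * d0 : ℤ) = 2 ^ n - (-1) ^ k * 2 ^ (n - k)) := by
  set t := n - k with ht
  have e1 : (d0 + d1 + d2 : ℤ) = 2 ^ n := by exact_mod_cast h1
  have e2 : (3 * (d0 ^ 2 + d1 ^ 2 + d2 ^ 2) : ℤ) = 4 ^ n + 2 * 4 ^ t := by exact_mod_cast h2
  have e3 : ((d0 : ℤ) + d1 + d2) ^ 2 = 4 ^ n := by
    rw [e1, ← pow_mul, mul_comm n 2, pow_mul]; norm_num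
  have e4 : ((d0 : ℤ) - d1) ^ 2 + ((d0 : ℤ) - d1) * (d1 - d2) + ((d1 : ℤ) - d2) ^ 2 = 4 ^ t := by
    nlinarith
  -- the sign
  have hm1 := two_pow_mod n
  have hm2 := two_pow_mod t
  have hsgn : ∀ e : ℤ, (e = 2 ^ t ∨ e = -2 ^ t) → (3 : ℤ) ∣ 2 ^ n - e → e = (-1) ^ k * 2 ^ t := by
    intro e he hd
    rcases Nat.even_or_odd k with hk2 | hk2
    · rw [hk2.neg_one_pow, one_mul]
      rcases he with he | he
      · exact he
      · exfalso
        have hpar : Even n ↔ Even t := by
          rw [ht, Nat.even_sub hk]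
          simp [hk2]
        rw [he] at hd
        by_cases h : Even n
        · rw [if_pos h] at hm1
          rw [if_pos (hpar.1 h)] at hm2
          omega
        · rw [if_neg h] at hm1
          rw [if_neg (fun h' => h (hpar.2 h'))] at hm2
          omega
    · rw [hk2.neg_one_pow]
      rcases he with he | he
      · exfalso
        have hpar : Even n ↔ ¬ Even t := by
          rw [ht, Nat.even_sub hk]
          have : ¬ Even k := Nat.not_even_iff_odd.2 hk2
          simp [this]
        rw [he] at hd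
        by_cases h : Even n
        · rw [if_pos h] at hm1
          rw [if_neg (hpar.1 h)] at hm2
          omega
        · rw [if_neg h] at hm1
          rw [if_pos (not_not.1 (fun h' => h (hpar.2 h')))] at hm2
          omega
      · rw [he]; ring
  have h3e : ∀ e : ℤ, (e = 2 ^ t ∨ e = -2 ^ t) → ¬ (3 : ℤ) ∣ e := by
    intro e he hd
    split_ifs at hm2 <;> rcases he with rfl | rfl <;> omega
  rcases norm_four t _ _ e4 with ⟨h3, h4⟩ | ⟨h3, h4⟩ | ⟨h3, h4⟩
  · -- `d0 = d1`, `d1 - d2 = ± 2 ^ t`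
    right
    have h5 : (d2 : ℤ) - d1 = 2 ^ t ∨ (d2 : ℤ) - d1 = -2 ^ t := by omega
    have h6 := hsgn _ h5 ⟨d0, by linarith⟩
    have h7 := h3e _ h5
    refine ⟨fun h => ?_, fun h => ?_, ?_⟩
    · apply h7
      rw [h]; simp
    · apply h7
      omega
    · rw [← h6]; linarith
  · left
    have h5 : (d0 : ℤ) - d1 = (-1) ^ k * 2 ^ t := hsgn _ h4 ⟨d1, by linarith⟩
    refine ⟨by omega, ?_⟩
    have h6 : 2 * (-1) ^ k * 2 ^ t = 2 * ((d0 : ℤ) - d1) := by rw [h5]; ring
    rw [h6]; linarith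
  · right
    -- `d0 = d2`, `d1 - d0 = ∓ 2 ^ t`
    have h5 : (d1 : ℤ) - d0 = 2 ^ t ∨ (d1 : ℤ) - d0 = -2 ^ t := by omega
    have h6 := hsgn _ h5 ⟨d0, by linarith⟩
    have h7 := h3e _ h5
    refine ⟨fun h => ?_, fun h => ?_, ?_⟩
    · apply h7
      have : (d1 : ℤ) - d0 = 0 := by rw [h] at h3 h4 h5 ⊢; omega
      rw [this]; exact dvd_zero 3
    · apply h7
      omega
    · rw [← h6]; linarith

end Cfsg.Agent.H586.NX
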